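import Groth.Agent.Lib.HomScheme.Rep
import Mathlib.AlgebraicGeometry.Morphisms.Etale
import Mathlib.RingTheory.Etale.Basic

/-! Morphism schemes from a finite locally free scheme to an etale one are etale. -/

set_option autoImplicit false
set_option backward.isDefEq.respectTransparency false

universe u

open CategoryTheory CategoryTheory.Limits MonoidalCategory CartesianMonoidalCategory AlgebraicGeometry
open scoped TensorProduct

namespace GrothLib.ClopenHom13

open GrothLib.RepLocal GrothLib.HomScheme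

/-- Square-zero kernels stay square zero after tensoring. -/
theorem ker_map_sq {R A C : Type u} [CommRing R] [CommRing A] [Algebra R A] [CommRing C] [Algebra R C]
    (I : Ideal C) (hI : I ^ 2 = ⊥) :
    (RingHom.ker (Algebra.TensorProduct.map (AlgHom.id R A) (Ideal.Quotient.mkₐ R I))) ^ 2 = ⊥ := by
  rw [Algebra.TensorProduct.lTensor_ker _ (Ideal.Quotient.mkₐ_surjective R I), ← Ideal.map_pow,
    show RingHom.ker (Ideal.Quotient.mkₐ R I) = I from Ideal.mk_ker, hI, Ideal.map_bot]

/-- Restrictions of formally etale algebras are formally etale. -/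
theorem formallyEtale_weil {R A B W : Type u} [CommRing R] [CommRing A] [Algebra R A] [CommRing B] [Algebra R B]
    [CommRing W] [Algebra R W] [Algebra.FormallyEtale R B] (θ : B →ₐ[R] A ⊗[R] W)
    (hθ : ∀ (C : Type u) [CommRing C] [Algebra R C] (f : B →ₐ[R] A ⊗[R] C),
      ∃! g : W →ₐ[R] C, (Algebra.TensorProduct.map (AlgHom.id R A) g).comp θ = f) :
    Algebra.FormallyEtale R W := by
  refine Algebra.FormallyEtale.iff_comp_bijective.mpr fun C _ _ I hI => ?_
  let q : A ⊗[R] C →ₐ[R] A ⊗[R] (C ⧸ I) := Algebra.TensorProduct.map (AlgHom.id R A) (Ideal.Quotient.mkₐ R I)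
  have hq : Function.Surjective q := LinearMap.lTensor_surjective A (Ideal.Quotient.mkₐ_surjective R I)
  let J := RingHom.ker q
  let e : ((A ⊗[R] C) ⧸ J) ≃ₐ[R] A ⊗[R] (C ⧸ I) := Ideal.quotientKerAlgEquivOfSurjective hq
  have hb := Algebra.FormallyEtale.comp_bijective R B J (ker_map_sq I hI)
  have key : ∀ g : W →ₐ[R] C,
      (Algebra.TensorProduct.map (AlgHom.id R A) ((Ideal.Quotient.mkₐ R I).comp g)).comp θ =
        e.toAlgHom.comp ((Ideal.Quotient.mkₐ R J).comp ((Algebra.TensorProduct.map (AlgHom.id R A) g).comp θ)) := by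
    intro g
    ext b
    simp only [AlgHom.comp_apply]
    change _ = q (Algebra.TensorProduct.map (AlgHom.id R A) g (θ b))
    rw [← AlgHom.comp_apply q, ← Algebra.TensorProduct.map_comp, AlgHom.id_comp]
  constructor
  · intro g g' h
    refine (hθ C _).unique rfl ?_
    refine hb.1 (AlgHom.ext fun b => e.injective ?_)
    have h2 := congrArg (fun k => (Algebra.TensorProduct.map (AlgHom.id R A) k).comp θ) h.symm
    rw [key, key] at h2
    exact AlgHom.congr_fun h2 b
  · intro f₀
    obtain ⟨h, hh⟩ := hb.2 (e.symm.toAlgHom.comp ((Algebra.TensorProduct.map (AlgHom.id R A) f₀).comp θ))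
    obtain ⟨g, hg, -⟩ := hθ C h
    refine ⟨g, (hθ (C ⧸ I) _).unique ?_ rfl⟩
    rw [key, hg, hh, ← AlgHom.comp_assoc, AlgEquiv.comp_symm, AlgHom.id_comp]

variable {S : Scheme.{u}}

/-- The local piece of a morphism scheme into an etale scheme. -/
theorem exists_affine_rep_etale {R : Type u} [CommRing R] (j : Spec (CommRingCat.of R) ⟶ S) [Mono j] (X Y : Over S)
    [IsFinite X.hom] [Flat X.hom] [LocallyOfFinitePresentation X.hom] [IsAffineHom Y.hom] [Etale Y.hom] :
    ∃ (W : Type u) (_ : CommRing W) (_ : Algebra R W) (n : X ⊗ specOver j W ⟶ Y),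
      (∀ (C : Type u) [CommRing C] [Algebra R C] (φ : X ⊗ specOver j C ⟶ Y),
        ∃! v : specOver j C ⟶ specOver j W, (X ◁ v) ≫ n = φ) ∧ Algebra.Etale R W := by
  obtain ⟨A, _, _, a, ha⟩ := exists_chart j X
  obtain ⟨B, _, _, b, hb⟩ := exists_chart j Y
  haveI : Module.Finite R A := RingHom.finite_algebraMap.mp
    ((IsFinite.SpecMap_iff _).mp (MorphismProperty.of_isPullback (P := @IsFinite) ha inferInstance))
  haveI : Module.Flat R A := RingHom.flat_algebraMap_iff.mp
    (Flat.SpecMap_iff.mp (MorphismProperty.of_isPullback (P := @Flat) ha inferInstance))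
  haveI : Algebra.FinitePresentation R A := RingHom.finitePresentation_algebraMap.mp
    ((HasRingHomProperty.Spec_iff (P := @LocallyOfFinitePresentation)).mp
      (MorphismProperty.of_isPullback (P := @LocallyOfFinitePresentation) ha inferInstance))
  haveI : Module.FinitePresentation R A := Module.FinitePresentation.of_finite_of_finitePresentation R A
  haveI : Module.Projective R A := Module.Flat.projective_of_finitePresentation
  haveI : Algebra.Etale R B := RingHom.etale_algebraMap.mp
    ((HasRingHomProperty.Spec_iff (P := @Etale)).mp (MorphismProperty.of_isPullback (P := @Etale) hb inferInstance))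
  obtain ⟨W, _, _, θ, hθ, -, hFP⟩ := WeilAffine.exists_weil R A B
  haveI := isIso_prodLift j a ha W
  refine ⟨W, inferInstance, inferInstance, inv (prodLift j a W) ≫ specHom j θ ≫ b, fun C _ _ φ => ?_,
    ⟨formallyEtale_weil θ hθ, hFP inferInstance⟩⟩
  haveI := isIso_prodLift j a ha C
  obtain ⟨f, hf, hfu⟩ := existsUnique_chart_lift j b hb (prodLift j a C ≫ φ)
  obtain ⟨g, hg, hgu⟩ := hθ C f
  have key : ∀ g' : W →ₐ[R] C, prodLift j a C ≫ (X ◁ specHom j g') ≫ inv (prodLift j a W) ≫ specHom j θ ≫ b =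
      specHom j ((Algebra.TensorProduct.map (AlgHom.id R A) g').comp θ) ≫ b := fun g' => by
    rw [← Category.assoc, prodLift_natural, Category.assoc, IsIso.hom_inv_id_assoc, ← Category.assoc,
      specHom_comp]
  refine ⟨specHom j g, ?_, fun v hv => ?_⟩
  · change (X ◁ specHom j g) ≫ _ = φ
    rw [← cancel_epi (prodLift j a C), key, hg, hf]
  · obtain ⟨g', rfl⟩ := specHom_surjective j v
    exact congrArg (specHom j) (hgu g' (hfu _ (show _ = _ by rw [← key g', hv])))

theorem exists_local_etale (X Y : Over S) [IsFinite X.hom] [Flat X.hom] [LocallyOfFinitePresentation X.hom]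
    [IsAffineHom Y.hom] [Etale Y.hom] (U : S.affineOpens) :
    ∃ (N : Over S) (n : (homPsh X Y).obj N), RepOn (homPsh X Y) U.1 N n ∧
      ∀ q : N.left ⟶ (U.1 : Scheme.{u}), q ≫ U.1.ι = N.hom → Etale q := by
  have hU : IsAffineOpen U.1 := U.2
  haveI : Mono hU.fromSpec := inferInstance
  obtain ⟨W, _, _, n, hn, hE⟩ := exists_affine_rep_etale hU.fromSpec X Y
  let w := Spec.map (CommRingCat.ofHom (algebraMap Γ(S, U.1) W))
  have hw : (w ≫ hU.isoSpec.inv) ≫ U.1.ι = (specOver hU.fromSpec W).hom := by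
    rw [Category.assoc, hU.isoSpec_inv_ι]
    rfl
  refine ⟨specOver hU.fromSpec W, n, repOn_of_affine (isSheaf_homPsh X Y) _ _ _ ⟨_, hw⟩
    fun T hT hTU φ => ?_, fun q hq => ?_⟩
  · obtain ⟨q, hq⟩ := hTU
    haveI := hT
    obtain ⟨C, _, _, ⟨e⟩⟩ := exists_iso_specOver hU.fromSpec T (q ≫ hU.isoSpec.hom) (by
      rw [← hU.isoSpec_inv_ι, Category.assoc, Iso.hom_inv_id_assoc, hq])
    obtain ⟨v, hv, hvu⟩ := hn C ((X ◁ e.inv) ≫ φ)
    refine ⟨e.hom ≫ v, ?_, fun v' hv' => ?_⟩
    · change (X ◁ (e.hom ≫ v)) ≫ n = φ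
      rw [MonoidalCategory.whiskerLeft_comp, Category.assoc, hv, ← Category.assoc,
        ← MonoidalCategory.whiskerLeft_comp, e.hom_inv_id, MonoidalCategory.whiskerLeft_id, Category.id_comp]
    · have h : e.inv ≫ v' = v := hvu _ (by
        change (X ◁ (e.inv ≫ v')) ≫ n = _
        rw [MonoidalCategory.whiskerLeft_comp, Category.assoc]
        exact congrArg _ hv')
      rw [← h, Iso.hom_inv_id_assoc]
  · obtain rfl : q = w ≫ hU.isoSpec.inv := by rw [← cancel_mono U.1.ι, hq, hw]
    haveI : Etale w := (HasRingHomProperty.Spec_iff (P := @Etale)).mpr (RingHom.etale_algebraMap.mpr hE)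
    infer_instance

/-- The morphism scheme from a finite locally free scheme to an affine etale scheme is affine etale. -/
theorem exists_hom_etale (X Y : Over S) [IsFinite X.hom] [Flat X.hom] [LocallyOfFinitePresentation X.hom]
    [IsAffineHom Y.hom] [Etale Y.hom] :
    ∃ (M : Over S) (ev : X ⊗ M ⟶ Y),
      (∀ (T : Over S) (φ : X ⊗ T ⟶ Y), ∃! v : T ⟶ M, (X ◁ v) ≫ ev = φ) ∧ Etale M.hom ∧ IsAffineHom M.hom := by
  obtain ⟨M, ev, hM, hA, -, -⟩ := HomScheme.exists_hom X Y
  exact ⟨M, ev, hM, prop_of_local _ @Etale M ev hM (exists_local_etale X Y), hA⟩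

end GrothLib.ClopenHom13
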