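import Mathlib.AlgebraicGeometry.Limits
import Mathlib.AlgebraicGeometry.Morphisms.QuasiFinite
import Mathlib.AlgebraicGeometry.Morphisms.Separated
import Mathlib.AlgebraicGeometry.Morphisms.Etale
import Mathlib.CategoryTheory.Comma.Over.Basic

/-! Morphisms to two copies of the base are clopen subsets. -/

set_option autoImplicit false
set_option backward.isDefEq.respectTransparency false
universe u

open CategoryTheory CategoryTheory.Limits AlgebraicGeometry

namespace GrothLib.ClopenHom13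

variable (S : Scheme.{u})

/-- Two copies of the base. -/
noncomputable abbrev Two : Over S := Over.mk (coprod.desc (𝟙 S) (𝟙 S))

/-- The points of the first copy. -/
def first : Set (Two S).left := Set.range (coprod.inl : S ⟶ S ⨿ S)

theorem isClopen_first : IsClopen (first S) := by
  refine ⟨⟨?_⟩, (coprod.inl : S ⟶ S ⨿ S).isOpenEmbedding.isOpen_range⟩
  rw [first, (isCompl_range_inl_inr S S).compl_eq]
  exact (coprod.inr : S ⟶ S ⨿ S).isOpenEmbedding.isOpen_range

instance etale_two : Etale (Two S).hom := by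
  rw [IsZariskiLocalAtSource.iff_of_openCover (P := @Etale) (coprodOpenCover.{u, u} S S)]
  rintro (i | i)
  · change Etale (coprod.inl ≫ coprod.desc (𝟙 S) (𝟙 S))
    rw [coprod.inl_desc]
    infer_instance
  · change Etale (coprod.inr ≫ coprod.desc (𝟙 S) (𝟙 S))
    rw [coprod.inr_desc]
    infer_instance

variable {S}

/-- The two pieces of a clopen subset. -/
theorem exists_hom {Z : Over S} {V : Set Z.left} (hV : IsClopen V) :
    ∃ φ : Z ⟶ Two S, φ.left.base ⁻¹' first S = V := by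
  let U : Z.left.Opens := ⟨V, hV.2⟩
  let W : Z.left.Opens := ⟨Vᶜ, hV.1.isOpen_compl⟩
  have hc : IsCompl U.ι.opensRange W.ι.opensRange := by
    rw [Scheme.Opens.opensRange_ι, Scheme.Opens.opensRange_ι]
    constructor
    · rw [disjoint_iff]
      ext x
      exact iff_of_false (fun h => h.2 h.1) id
    · rw [codisjoint_iff]
      ext x
      exact iff_of_true (em _) trivial
  obtain ⟨hl⟩ := nonempty_isColimit_binaryCofanMk_of_isCompl U.ι W.ι hc
  let d : Z.left ⟶ S ⨿ S := hl.desc (BinaryCofan.mk (U.ι ≫ Z.hom ≫ (coprod.inl : S ⟶ S ⨿ S)) (W.ι ≫ Z.hom ≫ coprod.inr))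
  have hU : U.ι ≫ d = U.ι ≫ Z.hom ≫ coprod.inl := hl.fac _ ⟨WalkingPair.left⟩
  have hW : W.ι ≫ d = W.ι ≫ Z.hom ≫ coprod.inr := hl.fac _ ⟨WalkingPair.right⟩
  refine ⟨Over.homMk d (BinaryCofan.IsColimit.hom_ext hl ?_ ?_), Set.ext fun x => ?_⟩
  · change U.ι ≫ d ≫ coprod.desc (𝟙 S) (𝟙 S) = U.ι ≫ Z.hom
    rw [reassoc_of% hU, coprod.inl_desc, Category.comp_id]
  · change W.ι ≫ d ≫ coprod.desc (𝟙 S) (𝟙 S) = W.ι ≫ Z.hom
    rw [reassoc_of% hW, coprod.inr_desc, Category.comp_id]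
  · change d x ∈ first S ↔ x ∈ V
    by_cases hx : x ∈ V
    · refine iff_of_true ⟨Z.hom x, ?_⟩ hx
      exact congrArg (fun f : (U : Scheme.{u}) ⟶ S ⨿ S => f ⟨x, hx⟩) hU.symm
    · refine iff_of_false ?_ hx
      rintro ⟨y, hy⟩
      have h := congrArg (fun f : (W : Scheme.{u}) ⟶ S ⨿ S => f ⟨x, hx⟩) hW
      exact inl_ne_inr S S y (Z.hom x) (hy.trans h)

theorem hom_ext {Z : Over S} {φ φ' : Z ⟶ Two S} (h : φ.left.base ⁻¹' first S = φ'.left.base ⁻¹' first S) :
    φ = φ' := by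
  have hi : IsCompl (Set.range (coprod.inl : S ⟶ S ⨿ S)) (Set.range (coprod.inr : S ⟶ S ⨿ S)) :=
    isCompl_range_inl_inr S S
  let U : Z.left.Opens := ⟨φ.left.base ⁻¹' first S, φ.left.continuous.isOpen_preimage _ (isClopen_first S).2⟩
  let W : Z.left.Opens := ⟨(φ.left.base ⁻¹' first S)ᶜ,
    ((isClopen_first S).1.preimage φ.left.continuous).isOpen_compl⟩
  have hc : IsCompl U.ι.opensRange W.ι.opensRange := by
    rw [Scheme.Opens.opensRange_ι, Scheme.Opens.opensRange_ι]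
    constructor
    · rw [disjoint_iff]
      ext x
      exact iff_of_false (fun h => h.2 h.1) id
    · rw [codisjoint_iff]
      ext x
      exact iff_of_true (em _) trivial
  obtain ⟨hl⟩ := nonempty_isColimit_binaryCofanMk_of_isCompl U.ι W.ι hc
  have key : ∀ {Q : Scheme.{u}} (a : Q ⟶ Z.left) (e : S ⟶ S ⨿ S) [IsOpenImmersion e],
      e ≫ coprod.desc (𝟙 S) (𝟙 S) = 𝟙 S → ∀ ψ : Z ⟶ Two S, (∀ x, ψ.left (a x) ∈ Set.range e) →
        a ≫ ψ.left = (a ≫ Z.hom) ≫ e := by
    intro Q a e _ he ψ hψ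
    have hl' := IsOpenImmersion.lift_fac e (a ≫ ψ.left) (by rintro _ ⟨x, rfl⟩; exact hψ x)
    have h2 := congrArg (· ≫ coprod.desc (𝟙 S) (𝟙 S)) hl'
    simp only [Category.assoc, he, Category.comp_id] at h2
    rw [show ψ.left ≫ coprod.desc (𝟙 S) (𝟙 S) = Z.hom from Over.w ψ] at h2
    rw [← h2, hl']
  refine Over.OverMorphism.ext (BinaryCofan.IsColimit.hom_ext hl ?_ ?_)
  · change U.ι ≫ φ.left = U.ι ≫ φ'.left
    rw [key U.ι coprod.inl (coprod.inl_desc _ _) φ fun x => x.2,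
      key U.ι coprod.inl (coprod.inl_desc _ _) φ' fun x => (Set.ext_iff.1 h _).1 x.2]
  · change W.ι ≫ φ.left = W.ι ≫ φ'.left
    rw [key W.ι coprod.inr (coprod.inr_desc _ _) φ fun x => hi.compl_eq.le x.2,
      key W.ι coprod.inr (coprod.inr_desc _ _) φ' fun x => hi.compl_eq.le fun hx => x.2 ((Set.ext_iff.1 h _).2 hx)]

end GrothLib.ClopenHom13
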